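import Groth.Prelude.Def_RDer

/-! The first edge map is an isomorphism for acyclic objects. -/

set_option autoImplicit false
set_option backward.isDefEq.respectTransparency false

universe v₁ v₂ v₃ u₁ u₂ u₃

open CategoryTheory CategoryTheory.Limits HomologicalComplex

noncomputable section

namespace Groth.Agent.EdgeLib

variable {A : Type u₁} [Category.{v₁} A] [Abelian A] [HasInjectiveResolutions A]
  {B : Type u₂} [Category.{v₂} B] [Abelian B] [HasInjectiveResolutions B]
  {C : Type u₃} [Category.{v₃} C] [Abelian C]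

omit [HasInjectiveResolutions B] in
theorem quasiIso_mapAug (Φ : A ⥤ B) [Φ.Additive] [PreservesFiniteLimits Φ] (X : A)
    (h : ∀ q : ℕ, 0 < q → IsZero ((Φ.rightDerived q).obj X)) (I : InjectiveResolution X) :
    QuasiIso (RDer.mapAug Φ I.ι) := by
  refine ⟨fun n => ?_⟩
  cases n with
  | zero =>
    rw [CochainComplex.quasiIsoAt₀_iff, ShortComplex.quasiIso_iff_of_zeros]
    · refine (ShortComplex.exact_and_mono_f_iff_of_iso ?_).2
        ⟨I.exact₀.map_of_mono_of_preservesKernel Φ
          (inferInstanceAs (Mono (I.ι.f 0))) inferInstance,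
          Φ.map_mono (I.ι.f 0)⟩
      exact ShortComplex.isoMk (Iso.refl _) (Iso.refl _) (Iso.refl _)
        (by simp [HomologicalComplex.singleMapHomologicalComplex_inv_app_self]; exact (Category.id_comp _).symm) (by simp)
    · simp
    · simp
    · simp
  | succ n =>
    rw [quasiIsoAt_iff_exactAt]
    · rw [HomologicalComplex.exactAt_iff_isZero_homology]
      exact IsZero.of_iso (h (n + 1) n.succ_pos) (I.isoRightDerivedObj Φ (n + 1)).symm
    · exact CochainComplex.exactAt_succ_single_obj _ _

theorem isIso_edgeIn (Φ : A ⥤ B) [Φ.Additive] [Φ.PreservesInjectiveObjects] [PreservesFiniteLimits Φ]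
    (Ψ : B ⥤ C) [Ψ.Additive] (q : ℕ) (X : A)
    (h : ∀ q : ℕ, 0 < q → IsZero ((Φ.rightDerived q).obj X)) :
    IsIso (RDer.edgeIn Φ Ψ q X) := by
  have : QuasiIso (RDer.mapAug Φ (injectiveResolution X).ι) := quasiIso_mapAug Φ X h _
  let J : InjectiveResolution (Φ.obj X) :=
    { cocomplex := (Φ.mapHomologicalComplex _).obj (injectiveResolution X).cocomplex
      ι := RDer.mapAug Φ (injectiveResolution X).ι }
  have e := InjectiveResolution.isoRightDerivedObj_hom_naturality (𝟙 (Φ.obj X)) (injectiveResolution (Φ.obj X)) J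
    (RDer.descToInjectives (𝟙 (Φ.obj X)) (injectiveResolution (Φ.obj X)).cocomplex (injectiveResolution (Φ.obj X)).ι
      ((Φ.mapHomologicalComplex _).obj (injectiveResolution X).cocomplex) (RDer.mapAug Φ (injectiveResolution X).ι))
    (RDer.ι_descToInjectives_f_zero _ _ _ _ _) Ψ q
  rw [CategoryTheory.Functor.map_id, Category.id_comp] at e
  have e2 : RDer.edgeIn Φ Ψ q X = (J.isoRightDerivedObj Ψ q).hom ≫
      ((injectiveResolution X).isoRightDerivedObj (Φ ⋙ Ψ) q).inv := by
    rw [e]
    exact (Category.assoc _ _ _).symm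
  rw [e2]
  infer_instance

end Groth.Agent.EdgeLib
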