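import Groth.Prelude.Def_CechEdge
import Groth.Prelude.Def_DeltaF
import Groth.Agent.HyperLib.SSeq
import Groth.Agent.SiteBase.FamilyCechApps

/-!
# The two delta functors compared by the Čech edge maps
-/

set_option autoImplicit false
set_option backward.isDefEq.respectTransparency false

universe u

open CategoryTheory CategoryTheory.Limits Opposite Abelian

namespace Groth.Agent.EdgeLib

variable {C : Type u} [SmallCategory C] [HasPullbacks C] {U : C} {ι : Type u} (Y : ι → Over U)

/-- The Čech nerve of the family. -/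
noncomputable abbrev nerve : SimplicialObject (FormalCoproduct.{u} (Over U)) :=
  (FormalCoproduct.mk ι Y).cech

instance preservesHomology_cxFunctor : (CechEdge.cxFunctor (C := C) Y).PreservesHomology := by
  apply Functor.preservesHomology_of_map_exact
  intro S hS
  exact (hS.map ((Functor.whiskeringLeft (Over U)ᵒᵖ Cᵒᵖ AddCommGrpCat.{u}).obj (Over.forget U).op)).map
    (HyperLib.cochF (nerve Y))

instance additive_cxFunctor : (CechEdge.cxFunctor (C := C) Y).Additive where
  map_add {P P'} {f g} :=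
    (HyperLib.cochF (nerve Y)).map_add
      (f := Functor.whiskerLeft (Over.forget U).op f) (g := Functor.whiskerLeft (Over.forget U).op g)

instance preservesFiniteLimits_cxFunctor : PreservesFiniteLimits (CechEdge.cxFunctor (C := C) Y) :=
  Functor.preservesFiniteLimits_of_preservesHomology _

instance preservesFiniteColimits_cxFunctor : PreservesFiniteColimits (CechEdge.cxFunctor (C := C) Y) :=
  Functor.preservesFiniteColimits_of_preservesHomology _

theorem shortExact_cx {S : ShortComplex (Cᵒᵖ ⥤ AddCommGrpCat.{u})} (hS : S.ShortExact) :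
    (S.map (CechEdge.cxFunctor Y)).ShortExact :=
  hS.map_of_exact _

/-- Čech cohomology as a delta functor on presheaves. -/
noncomputable def cechT : DeltaF.CohDeltaFunctor (Cᵒᵖ ⥤ AddCommGrpCat.{u}) AddCommGrpCat.{u} ℕ where
  F n := CechEdge.cxFunctor Y ⋙ HomologicalComplex.homologyFunctor AddCommGrpCat.{u} (ComplexShape.up ℕ) n
  additive n := inferInstance
  δ S hS n₀ n₁ h := (shortExact_cx Y hS).δ n₀ n₁ h
  δ_natural {S S'} hS hS' φ n₀ n₁ h :=
    (HomologicalComplex.HomologySequence.δ_naturality ((CechEdge.cxFunctor Y).mapShortComplex.map φ)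
      (shortExact_cx Y hS) (shortExact_cx Y hS') n₀ n₁ h).symm
  exact₂ S hS n := (shortExact_cx Y hS).homology_exact₂ n
  comp_δ S hS n₀ n₁ h := (shortExact_cx Y hS).comp_δ n₀ n₁ h
  exact₃ S hS n₀ n₁ h := (shortExact_cx Y hS).homology_exact₃ n₀ n₁ h
  δ_comp S hS n₀ n₁ h := (shortExact_cx Y hS).δ_comp n₀ n₁ h
  exact₁ S hS n₀ n₁ h := (shortExact_cx Y hS).homology_exact₁ n₀ n₁ h

theorem isEffaceable_cechT : (cechT Y).IsEffaceable := by
  intro n P
  let X : Sheaf (⊥ : GrothendieckTopology C) AddCommGrpCat.{u} := ⟨P, Presheaf.isSheaf_bot _⟩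
  refine ⟨(Injective.under X).obj, (Injective.ι X).hom,
    (inferInstance : Mono ((sheafToPresheaf _ _).map (Injective.ι X))), ?_⟩
  obtain ⟨e⟩ := SiteBase.nonempty_cech_equiv_sieve Y (Injective.under X).obj (n + 1)
  haveI : Injective (⟨(Injective.under X).obj, Presheaf.isSheaf_bot _⟩ :
      Sheaf (⊥ : GrothendieckTopology C) AddCommGrpCat.{u}) := inferInstanceAs (Injective (Injective.under X))
  haveI : Subsingleton (CohCx.cechH (Injective.under X).obj Y (n + 1)) := by
    refine @Equiv.subsingleton _ _ e.toEquiv ?_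
    exact Ext.subsingleton_of_injective _ _ n
  exact (AddCommGrpCat.isZero_of_subsingleton (CohCx.cechH (Injective.under X).obj Y (n + 1))).eq_of_tgt _ _

variable (J : GrothendieckTopology C)

theorem HUmap_apply {F G : Sheaf J AddCommGrpCat.{u}} (ψ : F ⟶ G) (p : ℕ) (V : C) (x : CohSite.HU F p V) :
    CechEdge.HUmap ψ p V x = Ext.comp x (Ext.mk₀ ψ) (add_zero p) := rfl

variable (U)

/-- Cohomology over `U` of the associated sheaf, as a delta functor on presheaves. -/
noncomputable def shT : DeltaF.CohDeltaFunctor (Cᵒᵖ ⥤ AddCommGrpCat.{u}) AddCommGrpCat.{u} ℕ where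
  F n := presheafToSheaf J AddCommGrpCat.{u} ⋙ Sheaf.cohomologyPresheafFunctor J n ⋙ (evaluation _ _).obj (op U)
  additive n := ⟨fun {P P'} {f g} => by
    refine AddCommGrpCat.hom_ext (AddMonoidHom.ext fun x => ?_)
    change CechEdge.HUmap ((presheafToSheaf J AddCommGrpCat.{u}).map (f + g)) n U x =
      CechEdge.HUmap ((presheafToSheaf J AddCommGrpCat.{u}).map f) n U x +
        CechEdge.HUmap ((presheafToSheaf J AddCommGrpCat.{u}).map g) n U x
    rw [Functor.map_add, HUmap_apply, HUmap_apply, HUmap_apply, Ext.mk₀_add, Ext.comp_add]⟩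
  δ S hS n₀ n₁ h := AddCommGrpCat.ofHom
    ((hS.map_of_exact (presheafToSheaf J AddCommGrpCat.{u})).extClass.postcomp (CohCx.freeSheaf J U) h)
  δ_natural {S S'} hS hS' φ n₀ n₁ h := by
    refine AddCommGrpCat.hom_ext (AddMonoidHom.ext fun x => ?_)
    change Ext.comp (Ext.comp x (Ext.mk₀ ((presheafToSheaf J AddCommGrpCat.{u}).map φ.τ₃)) (add_zero n₀))
        (hS'.map_of_exact (presheafToSheaf J AddCommGrpCat.{u})).extClass h =
      Ext.comp (Ext.comp x (hS.map_of_exact (presheafToSheaf J AddCommGrpCat.{u})).extClass h)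
        (Ext.mk₀ ((presheafToSheaf J AddCommGrpCat.{u}).map φ.τ₁)) (add_zero n₁)
    rw [Ext.comp_assoc (a₂₃ := 1) x _ _ (add_zero n₀) (zero_add 1) (by omega),
      Ext.comp_assoc_of_third_deg_zero]
    exact congrArg (fun t => Ext.comp x t h)
      (ShortComplex.ShortExact.extClass_naturality (hS.map_of_exact _) (hS'.map_of_exact _)
        ((presheafToSheaf J AddCommGrpCat.{u}).mapShortComplex.map φ)).symm
  exact₂ S hS n := (Ext.covariant_sequence_exact₂' (CohCx.freeSheaf J U)
    (hS.map_of_exact (presheafToSheaf J AddCommGrpCat.{u})) n)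
  comp_δ S hS n₀ n₁ h := by
    refine AddCommGrpCat.hom_ext (AddMonoidHom.ext fun x => ?_)
    change Ext.comp (Ext.comp x (Ext.mk₀ ((presheafToSheaf J AddCommGrpCat.{u}).map S.g)) (add_zero n₀))
      (hS.map_of_exact (presheafToSheaf J AddCommGrpCat.{u})).extClass h = 0
    rw [Ext.comp_assoc (a₂₃ := 1) x _ _ (add_zero n₀) (zero_add 1) (by omega)]
    exact (congrArg (fun t => Ext.comp x t h)
      (hS.map_of_exact (presheafToSheaf J AddCommGrpCat.{u})).comp_extClass).trans (Ext.comp_zero _ _ _ _ _)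
  exact₃ S hS n₀ n₁ h := Ext.covariant_sequence_exact₃' (CohCx.freeSheaf J U)
    (hS.map_of_exact (presheafToSheaf J AddCommGrpCat.{u})) n₀ n₁ h
  δ_comp S hS n₀ n₁ h := by
    refine AddCommGrpCat.hom_ext (AddMonoidHom.ext fun x => ?_)
    change Ext.comp (Ext.comp x (hS.map_of_exact (presheafToSheaf J AddCommGrpCat.{u})).extClass h)
      (Ext.mk₀ ((presheafToSheaf J AddCommGrpCat.{u}).map S.f)) (add_zero n₁) = 0
    rw [Ext.comp_assoc_of_third_deg_zero]
    exact (congrArg (fun t => Ext.comp x t h)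
      (hS.map_of_exact (presheafToSheaf J AddCommGrpCat.{u})).extClass_comp).trans (Ext.comp_zero _ _ _ _ _)
  exact₁ S hS n₀ n₁ h := Ext.covariant_sequence_exact₁' (CohCx.freeSheaf J U)
    (hS.map_of_exact (presheafToSheaf J AddCommGrpCat.{u})) n₀ n₁ h

end Groth.Agent.EdgeLib
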