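import Groth.Agent.EdgeLib.Zero
import Groth.Agent.S6773

/-!
# The edge maps from Čech cohomology to cohomology
-/

set_option autoImplicit false
set_option backward.isDefEq.respectTransparency false

universe u

open CategoryTheory CategoryTheory.Limits Opposite Abelian

namespace Groth.Agent.EdgeLib

variable {C : Type u} [SmallCategory C] [HasPullbacks C] {U : C} {ι : Type u} (Y : ι → Over U)
  {J : GrothendieckTopology C}

theorem iCycles_cm {A B : CochainComplex AddCommGrpCat.{u} ℕ} (φ : A ⟶ B) (z : A.cycles 0) :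
    B.iCycles 0 (HomologicalComplex.cyclesMap φ 0 z) = φ.f 0 (A.iCycles 0 z) :=
  (ConcreteCategory.comp_apply _ _ _).symm.trans
    ((ConcreteCategory.congr_hom (HomologicalComplex.cyclesMap_i φ 0) z).trans (ConcreteCategory.comp_apply _ _ _))

theorem cechHMap_comp {P Q R : Cᵒᵖ ⥤ AddCommGrpCat.{u}} (φ : P ⟶ Q) (ψ : Q ⟶ R) (p : ℕ) (x : CohCx.cechH P Y p) :
    CechEdge.cechHMap Y (φ ≫ ψ) p x = CechEdge.cechHMap Y ψ p (CechEdge.cechHMap Y φ p x) :=
  (ConcreteCategory.congr_hom (((cechT Y).F p).map_comp φ ψ) x).trans (ConcreteCategory.comp_apply _ _ _)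

theorem cechHMap_bijective_of_isIso {P Q : Cᵒᵖ ⥤ AddCommGrpCat.{u}} (φ : P ⟶ Q) [IsIso φ] (p : ℕ) :
    Function.Bijective (CechEdge.cechHMap Y φ p) :=
  (ConcreteCategory.isIso_iff_bijective (((cechT Y).F p).map φ)).1 inferInstance

theorem HUmap_comp {F G H : Sheaf J AddCommGrpCat.{u}} (ψ : F ⟶ G) (θ : G ⟶ H) (p : ℕ) (V : C)
    (x : CohSite.HU F p V) :
    CechEdge.HUmap (ψ ≫ θ) p V x = CechEdge.HUmap θ p V (CechEdge.HUmap ψ p V x) := by
  rw [HUmap_apply, HUmap_apply, HUmap_apply, Ext.comp_assoc_of_third_deg_zero, Ext.mk₀_comp_mk₀]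

theorem HUmap_bijective_of_isIso {F G : Sheaf J AddCommGrpCat.{u}} (ψ : F ⟶ G) [IsIso ψ] (p : ℕ) (V : C) :
    Function.Bijective (CechEdge.HUmap ψ p V) :=
  (ConcreteCategory.isIso_iff_bijective
    (((Sheaf.cohomologyPresheafFunctor J p).map ψ).app (op V))).1 inferInstance

theorem HUmap_sectH0 (V : C) {F G : Sheaf J AddCommGrpCat.{u}} (ψ : F ⟶ G) (s : F.obj.obj (op V)) :
    CechEdge.HUmap ψ 0 V (CechEdge.sectH0 J V F s) = CechEdge.sectH0 J V G (ψ.hom.app (op V) s) := by
  have e : ∀ (H : Sheaf J AddCommGrpCat.{u}) (s : H.obj.obj (op V)),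
      CechEdge.sectH0 J V H s = Ext.mk₀ ((CohFree.homEquivSect J V H).symm s) := fun _ _ => rfl
  rw [e, e, HUmap_apply, Ext.mk₀_comp_mk₀]
  refine congrArg _ ((CohFree.homEquivSect J V G).injective ?_)
  rw [AddEquiv.apply_symm_apply]
  conv_rhs => rw [← (CohFree.homEquivSect J V F).apply_symm_apply s]
  rfl

theorem toCech_natural {P Q : Cᵒᵖ ⥤ AddCommGrpCat.{u}} (φ : P ⟶ Q) (s : P.obj (op U)) :
    CechEdge.cechHMap Y φ 0 (CechEdge.toCech Y P s) = CechEdge.toCech Y Q (φ.app (op U) s) := by
  refine ((ConcreteCategory.comp_apply _ _ _).symm.trans ((ConcreteCategory.congr_hom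
    (HomologicalComplex.homologyπ_naturality ((CechEdge.cxFunctor Y).map φ) 0) (CechEdge.toCycles P Y s)).trans
      (ConcreteCategory.comp_apply _ _ _))).trans ?_
  refine congrArg ((CechEdge.cx Q Y).homologyπ 0)
    ((AddCommGrpCat.mono_iff_injective ((CechEdge.cx Q Y).iCycles 0)).1 inferInstance ?_)
  refine (iCycles_cm _ _).trans (Eq.trans ?_ (iCycles_toCycles Y Q _).symm)
  refine (congrArg _ (iCycles_toCycles Y P s)).trans ?_
  refine HyperLib.cochain_ext (nerve Y) ((Over.forget U).op ⋙ Q) fun i => ?_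
  refine (HyperLib.valN_map (nerve Y) (Functor.whiskerLeft (Over.forget U).op φ) _ _).trans ?_
  rw [valN_toCech₀, valN_toCech₀]
  exact NatTrans.naturality_apply φ _ s

theorem cechHMap_zero_injective {P Q : Cᵒᵖ ⥤ AddCommGrpCat.{u}} (φ : P ⟶ Q)
    (h : ∀ i : ((nerve Y).obj (op (SimplexCategory.mk 0))).I,
      Function.Injective (φ.app (op (((nerve Y).obj (op (SimplexCategory.mk 0))).obj i).left))) :
    Function.Injective (CechEdge.cechHMap Y φ 0) := by
  intro x x' hx
  obtain ⟨z, rfl⟩ := (AddCommGrpCat.epi_iff_surjective ((CechEdge.cx P Y).homologyπ 0)).1 inferInstance x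
  obtain ⟨z', rfl⟩ := (AddCommGrpCat.epi_iff_surjective ((CechEdge.cx P Y).homologyπ 0)).1 inferInstance x'
  refine congrArg _ ((AddCommGrpCat.mono_iff_injective ((CechEdge.cx P Y).iCycles 0)).1 inferInstance ?_)
  have e : ∀ z, CechEdge.cechHMap Y φ 0 ((CechEdge.cx P Y).homologyπ 0 z) =
      (CechEdge.cx Q Y).homologyπ 0 (HomologicalComplex.cyclesMap ((CechEdge.cxFunctor Y).map φ) 0 z) := fun z =>
    (ConcreteCategory.comp_apply _ _ _).symm.trans ((ConcreteCategory.congr_hom
      (HomologicalComplex.homologyπ_naturality ((CechEdge.cxFunctor Y).map φ) 0) z).trans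
      (ConcreteCategory.comp_apply _ _ _))
  rw [e, e] at hx
  have h' := congrArg ((CechEdge.cx Q Y).iCycles 0)
    ((AddCommGrpCat.mono_iff_injective ((CechEdge.cx Q Y).homologyπ 0)).1 inferInstance hx)
  replace h' := (iCycles_cm ((CechEdge.cxFunctor Y).map φ) z).symm.trans
    (h'.trans (iCycles_cm ((CechEdge.cxFunctor Y).map φ) z'))
  refine HyperLib.cochain_ext (nerve Y) ((Over.forget U).op ⋙ P) fun i => h i ?_
  refine (HyperLib.valN_map (nerve Y) (Functor.whiskerLeft (Over.forget U).op φ) _ _).symm.trans ?_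
  refine Eq.trans ?_ (HyperLib.valN_map (nerve Y) (Functor.whiskerLeft (Over.forget U).op φ) _ _)
  exact congrArg (HyperLib.valN (nerve Y) ((Over.forget U).op ⋙ Q)
    (FormalCoproduct.Hom.fromIncl i (𝟙 _))) h'

theorem shfMap_toSheafify (P : Cᵒᵖ ⥤ AddCommGrpCat.{u}) :
    (CechEdge.shfMap J (toSheafify J P)).hom = toSheafify J (CechEdge.shf J P).obj :=
  sheafify_hom_ext J _ _ (CechEdge.shf J (CechEdge.shf J P).obj).2 (toSheafify_naturality J (toSheafify J P)).symm

instance isIso_shfMap_toSheafify (P : Cᵒᵖ ⥤ AddCommGrpCat.{u}) : IsIso (CechEdge.shfMap J (toSheafify J P)) := by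
  haveI : IsIso ((sheafToPresheaf J AddCommGrpCat.{u}).map (CechEdge.shfMap J (toSheafify J P))) := by
    change IsIso (CechEdge.shfMap J (toSheafify J P)).hom
    rw [shfMap_toSheafify]
    exact isIso_toSheafify J (CechEdge.shf J P).2
  exact isIso_of_reflects_iso _ (sheafToPresheaf J AddCommGrpCat.{u})

variable {Y} (hY : Sieve.ofArrows (fun i => (Y i).left) (fun i => (Y i).hom) ∈ J U)

/-- The edge map in degree zero. -/
noncomputable def edge0 (P : Cᵒᵖ ⥤ AddCommGrpCat.{u}) : CohCx.cechH P Y 0 →+ CohSite.HU (CechEdge.shf J P) 0 U :=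
  (CechEdge.sectH0 J U (CechEdge.shf J P)).toAddMonoidHom.comp
    ((AddEquiv.ofBijective (CechEdge.toCech Y (CechEdge.shf J P).obj)
      (bijective_toCech Y hY (CechEdge.shf J P))).symm.toAddMonoidHom.comp
        (CechEdge.cechHMap Y (toSheafify J P) 0))

theorem edge0_eq (P : Cᵒᵖ ⥤ AddCommGrpCat.{u}) (x : CohCx.cechH P Y 0) (a : (CechEdge.shf J P).obj.obj (op U))
    (ha : CechEdge.toCech Y (CechEdge.shf J P).obj a = CechEdge.cechHMap Y (toSheafify J P) 0 x) :
    edge0 hY P x = CechEdge.sectH0 J U (CechEdge.shf J P) a := by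
  refine congrArg (CechEdge.sectH0 J U (CechEdge.shf J P)) ?_
  exact (congrArg (AddEquiv.ofBijective (CechEdge.toCech Y (CechEdge.shf J P).obj)
      (bijective_toCech Y hY (CechEdge.shf J P))).symm ha.symm).trans (AddEquiv.symm_apply_apply _ a)

include hY in
theorem exists_sect (P : Cᵒᵖ ⥤ AddCommGrpCat.{u}) (x : CohCx.cechH P Y 0) :
    ∃ a, CechEdge.toCech Y (CechEdge.shf J P).obj a = CechEdge.cechHMap Y (toSheafify J P) 0 x :=
  (bijective_toCech Y hY (CechEdge.shf J P)).2 _

theorem edge0_toCech (P : Cᵒᵖ ⥤ AddCommGrpCat.{u}) (s : P.obj (op U)) :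
    edge0 hY P (CechEdge.toCech Y P s) =
      CechEdge.sectH0 J U (CechEdge.shf J P) ((toSheafify J P).app (op U) s) :=
  edge0_eq hY P _ _ (toCech_natural Y (toSheafify J P) s).symm

/-- The edge map in degree zero as a natural transformation. -/
noncomputable def edge0Nat : (cechT Y).F 0 ⟶ (shT U J).F 0 where
  app P := AddCommGrpCat.ofHom (edge0 hY P)
  naturality P Q φ := by
    refine AddCommGrpCat.hom_ext (AddMonoidHom.ext fun x => ?_)
    change edge0 hY Q (CechEdge.cechHMap Y φ 0 x) = CechEdge.HUmap (CechEdge.shfMap J φ) 0 U (edge0 hY P x)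
    obtain ⟨a, ha⟩ := exists_sect hY P x
    rw [edge0_eq hY P x a ha, HUmap_sectH0]
    refine edge0_eq hY Q _ _ ?_
    rw [← toCech_natural, ha, ← cechHMap_comp, ← cechHMap_comp]
    exact congrArg (fun t => CechEdge.cechHMap Y t 0 x) (toSheafify_naturality J φ).symm

include hY in
theorem exists_edge_family :
    ∃ e : ∀ (P : Cᵒᵖ ⥤ AddCommGrpCat.{u}) (p : ℕ), CohCx.cechH P Y p →+ CohSite.HU (CechEdge.shf J P) p U,
      CechEdge.IsEdge J Y e := by
  obtain ⟨τ, hτ, -⟩ := S6773.result (cechT Y) (isEffaceable_cechT Y) (shT U J) (edge0Nat hY)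
  refine ⟨fun P p => ((τ.app p).app P).hom, hY, fun P s => ?_, fun P Q φ p x => ?_, fun S hS hC p x => ?_⟩
  · change ((τ.app 0).app P).hom (CechEdge.toCech Y P s) = _
    rw [hτ]
    exact edge0_toCech hY P s
  · exact (ConcreteCategory.comp_apply _ _ _).symm.trans
      ((ConcreteCategory.congr_hom ((τ.app p).naturality φ) x).trans (ConcreteCategory.comp_apply _ _ _))
  · exact (ConcreteCategory.comp_apply _ _ _).symm.trans
      ((ConcreteCategory.congr_hom (τ.comm S hS p (p + 1) rfl) x).trans (ConcreteCategory.comp_apply _ _ _))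

variable {e : ∀ (P : Cᵒᵖ ⥤ AddCommGrpCat.{u}) (p : ℕ), CohCx.cechH P Y p →+ CohSite.HU (CechEdge.shf J P) p U}
  (he : CechEdge.IsEdge J Y e)

include he in
theorem edge_zero (P : Cᵒᵖ ⥤ AddCommGrpCat.{u}) : e P 0 = edge0 he.cover P := by
  refine AddMonoidHom.ext fun x => ?_
  obtain ⟨a, ha⟩ := exists_sect he.cover P x
  rw [edge0_eq he.cover P x a ha]
  refine (HUmap_bijective_of_isIso (CechEdge.shfMap J (toSheafify J P)) 0 U).1 ?_
  rw [← he.natural, ← ha, he.zero, HUmap_sectH0, shfMap_toSheafify]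

/-- A family of edge maps as a map of delta functors. -/
noncomputable def edgeHom : cechT Y ⟶ shT U J :=
  { app := fun p =>
      { app := fun P => AddCommGrpCat.ofHom (e P p)
        naturality := fun P Q φ => AddCommGrpCat.hom_ext (AddMonoidHom.ext fun x => he.natural P Q φ p x) }
    comm := fun S hS n₀ n₁ h => by
      subst h
      exact AddCommGrpCat.hom_ext (AddMonoidHom.ext fun x => he.delta S hS (shortExact_cx Y hS) n₀ x) }

theorem edge_unique
    {e' : ∀ (P : Cᵒᵖ ⥤ AddCommGrpCat.{u}) (p : ℕ), CohCx.cechH P Y p →+ CohSite.HU (CechEdge.shf J P) p U}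
    (he' : CechEdge.IsEdge J Y e') (h₀ : CechEdge.IsEdge J Y e) : e = e' := by
  obtain ⟨τ, -, huniq⟩ := S6773.result (cechT Y) (isEffaceable_cechT Y) (shT U J) (edge0Nat h₀.cover)
  have h : edgeHom h₀ = edgeHom he' := by
    rw [huniq (edgeHom h₀) (NatTrans.ext (funext fun P => congrArg AddCommGrpCat.ofHom (edge_zero h₀ P))),
      huniq (edgeHom he') (NatTrans.ext (funext fun P => congrArg AddCommGrpCat.ofHom (edge_zero he' P)))]
  funext P p
  exact congrArg (fun t : cechT Y ⟶ shT U J => ((t.app p).app P).hom) h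

include he in
theorem edgeSh_natural {F G : Sheaf J AddCommGrpCat.{u}} (ψ : F ⟶ G) (p : ℕ) (x : CohCx.cechH F.obj Y p) :
    CechEdge.edgeSh e G p (CechEdge.cechHMap Y ψ.hom p x) = CechEdge.HUmap ψ p U (CechEdge.edgeSh e F p x) := by
  change CechEdge.HUmap _ p U (e G.obj p _) = CechEdge.HUmap ψ p U (CechEdge.HUmap _ p U (e F.obj p x))
  rw [he.natural, ← HUmap_comp, ← HUmap_comp]
  exact congrArg (fun t => CechEdge.HUmap t p U (e F.obj p x))
    ((sheafificationAdjunction J AddCommGrpCat.{u}).counit.naturality ψ)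

include he in
theorem edgeSh_zero_bijective (F : Sheaf J AddCommGrpCat.{u}) : Function.Bijective (CechEdge.edgeSh e F 0) := by
  haveI := isIso_toSheafify J F.2
  have h1 : Function.Bijective (CechEdge.cechHMap Y (toSheafify J F.obj) 0) :=
    cechHMap_bijective_of_isIso Y (toSheafify J F.obj) 0
  have h2 := (AddEquiv.ofBijective (CechEdge.toCech Y (CechEdge.shf J F.obj).obj)
      (bijective_toCech Y he.cover (CechEdge.shf J F.obj))).symm.bijective
  have h3 := (CechEdge.sectH0 J U (CechEdge.shf J F.obj)).bijective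
  have h : Function.Bijective (edge0 he.cover F.obj) := h3.comp (h2.comp h1)
  rw [← edge_zero he] at h
  have h4 := HUmap_bijective_of_isIso ((sheafificationAdjunction J AddCommGrpCat.{u}).counit.app F) 0 U
  exact Function.Bijective.comp (f := e F.obj 0) h4 h

variable (S : ShortComplex (Sheaf J AddCommGrpCat.{u}))

/-- The short complex of presheaves with the presheaf cokernel. -/
noncomputable abbrev preSeq : ShortComplex (Cᵒᵖ ⥤ AddCommGrpCat.{u}) :=
  ShortComplex.mk S.f.hom (cokernel.π S.f.hom) (cokernel.condition _)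

/-- The presheaf cokernel maps to the quotient sheaf. -/
noncomputable abbrev preQuot : (preSeq S).X₃ ⟶ S.X₃.obj :=
  cokernel.desc S.f.hom S.g.hom (by rw [← ObjectProperty.FullSubcategory.comp_hom, S.zero]; rfl)

variable {S} (hS : S.ShortExact)

include hS in
theorem shortExact_preSeq : (preSeq S).ShortExact := by
  haveI := hS.mono_f
  haveI : Mono (preSeq S).f := (inferInstance : Mono ((sheafToPresheaf J AddCommGrpCat.{u}).map S.f))
  exact { exact := ShortComplex.exact_of_g_is_cokernel _ (cokernelIsCokernel _) }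

include hS in
theorem preQuot_injective (V : C) : Function.Injective ((preQuot S).app (op V)) := by
  refine (injective_iff_map_eq_zero ((preQuot S).app (op V)).hom).2 fun q hq => ?_
  haveI : Epi ((cokernel.π S.f.hom).app (op V)) := inferInstance
  obtain ⟨b, rfl⟩ := (AddCommGrpCat.epi_iff_surjective ((cokernel.π S.f.hom).app (op V))).1 inferInstance q
  have hb : S.g.hom.app (op V) b = 0 := by
    rw [← cokernel.π_desc S.f.hom S.g.hom (by rw [← ObjectProperty.FullSubcategory.comp_hom, S.zero]; rfl),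
      NatTrans.comp_app, ConcreteCategory.comp_apply]
    exact hq
  obtain ⟨a, rfl⟩ := (HyperLib.sections_exact hS V).2 b hb
  rw [← ConcreteCategory.comp_apply, ← NatTrans.comp_app, cokernel.condition]
  rfl

include hS in
theorem isIso_shfMap_preQuot : IsIso (CechEdge.shfMap J (preQuot S)) := by
  haveI := hS.epi_g
  haveI : Presheaf.IsLocallySurjective J S.g.hom :=
    (Sheaf.isLocallySurjective_iff_epi' AddCommGrpCat.{u} S.g).2 inferInstance
  haveI : Presheaf.IsLocallySurjective J (preQuot S) :=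
    Presheaf.isLocallySurjective_of_isLocallySurjective_fac J (cokernel.π_desc S.f.hom S.g.hom _)
  haveI : Presheaf.IsLocallyInjective J (preQuot S) :=
    Presheaf.isLocallyInjective_of_injective J _ fun V => preQuot_injective hS V.unop
  exact (J.W_iff _).1 (J.W_of_isLocallyBijective (preQuot S))

include he hS in
theorem edgeSh_square (hC : ((preSeq S).map (CechEdge.cxFunctor Y)).ShortExact) (p : ℕ)
    (x : CohCx.cechH (preSeq S).X₃ Y p) :
    CechEdge.edgeSh e S.X₁ (p + 1) ((hC.δ p (p + 1) rfl).hom x) =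
      CechEdge.extδ hS U p (CechEdge.edgeSh e S.X₃ p (CechEdge.cechHMap Y (preQuot S) p x)) := by
  have hS' := shortExact_preSeq hS
  change CechEdge.HUmap _ (p + 1) U (e _ (p + 1) _) = _
  refine (congrArg (CechEdge.HUmap _ (p + 1) U) (he.delta (preSeq S) hS' hC p x)).trans ?_
  change _ = CechEdge.extδ hS U p (CechEdge.HUmap _ p U (e _ p (CechEdge.cechHMap Y (preQuot S) p x)))
  rw [he.natural, ← HUmap_comp]
  have hmaps := hS'.map_of_exact (presheafToSheaf J AddCommGrpCat.{u})
  let φ : (preSeq S).map (presheafToSheaf J AddCommGrpCat.{u}) ⟶ S :=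
    { τ₁ := (sheafificationAdjunction J AddCommGrpCat.{u}).counit.app S.X₁
      τ₂ := (sheafificationAdjunction J AddCommGrpCat.{u}).counit.app S.X₂
      τ₃ := CechEdge.shfMap J (preQuot S) ≫ (sheafificationAdjunction J AddCommGrpCat.{u}).counit.app S.X₃
      comm₁₂ := ((sheafificationAdjunction J AddCommGrpCat.{u}).counit.naturality S.f).symm
      comm₂₃ := by
        refine ((sheafificationAdjunction J AddCommGrpCat.{u}).counit.naturality S.g).symm.trans ?_
        change (presheafToSheaf J AddCommGrpCat.{u}).map S.g.hom ≫ _ = CechEdge.shfMap J (cokernel.π S.f.hom) ≫ _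
        rw [← Category.assoc, ← Functor.map_comp, cokernel.π_desc] }
  change Ext.comp (Ext.comp (e (preSeq S).X₃ p x) hmaps.extClass rfl) (Ext.mk₀ φ.τ₁) (add_zero (p + 1)) =
    Ext.comp (Ext.comp (e (preSeq S).X₃ p x) (Ext.mk₀ φ.τ₃) (add_zero p)) hS.extClass rfl
  rw [Ext.comp_assoc (a₂₃ := 1) (e (preSeq S).X₃ p x) _ hS.extClass (add_zero p) (zero_add 1) (by omega),
    Ext.comp_assoc_of_third_deg_zero]
  exact congrArg (fun t => Ext.comp (e (preSeq S).X₃ p x) t rfl)
    (ShortComplex.ShortExact.extClass_naturality hmaps hS φ)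

include he hS in
/-- Injectivity in one degree higher. -/
theorem edgeSh_succ_injective [Injective S.X₂] (p : ℕ)
    (hq : Function.Injective (CechEdge.edgeSh e S.X₃ p))
    (hi : Function.Injective (CechEdge.cechHMap Y (preQuot S) p))
    (hI : Function.Surjective (CechEdge.edgeSh e S.X₂ p)) :
    Function.Injective (CechEdge.edgeSh e S.X₁ (p + 1)) := by
  have hC := shortExact_cx Y (shortExact_preSeq hS)
  refine (injective_iff_map_eq_zero _).2 fun w hw => ?_
  have hz : IsZero (CohCx.cechH S.X₂.obj Y (p + 1)) := SiteBase.isZero_cech_injective Y S.X₂ he.cover p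
  haveI : Epi (hC.δ p (p + 1) rfl) := hC.epi_δ p (p + 1) rfl hz
  obtain ⟨x, rfl⟩ := (AddCommGrpCat.epi_iff_surjective (hC.δ p (p + 1) rfl)).1 inferInstance w
  rw [edgeSh_square he hS hC p x] at hw
  obtain ⟨l, hl⟩ := Ext.covariant_sequence_exact₃ (CohCx.freeSheaf J U) hS _ rfl hw
  obtain ⟨x₂, rfl⟩ := hI l
  have hl' : CechEdge.edgeSh e S.X₃ p (CechEdge.cechHMap Y S.g.hom p x₂) =
      CechEdge.edgeSh e S.X₃ p (CechEdge.cechHMap Y (preQuot S) p x) :=
    (edgeSh_natural he S.g p x₂).trans hl
  have hx := hq hl'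
  rw [← cokernel.π_desc S.f.hom S.g.hom (by rw [← ObjectProperty.FullSubcategory.comp_hom, S.zero]; rfl),
    cechHMap_comp] at hx
  rw [← hi hx]
  exact (ConcreteCategory.comp_apply _ _ _).symm.trans (ConcreteCategory.congr_hom (hC.comp_δ p (p + 1) rfl) x₂)

include he in
theorem edgeSh_one_injective (F : Sheaf J AddCommGrpCat.{u}) : Function.Injective (CechEdge.edgeSh e F 1) := by
  obtain ⟨S, hS, rfl, hI⟩ := SiteBase.exists_injective_presentation F
  haveI := hI
  exact edgeSh_succ_injective he hS 0 (edgeSh_zero_bijective he S.X₃).1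
    (cechHMap_zero_injective Y (preQuot S) fun i => preQuot_injective hS _)
    (edgeSh_zero_bijective he S.X₂).2

include he in
theorem edgeSh_bijective (p : ℕ) : ∀ F : Sheaf J AddCommGrpCat.{u},
    (∀ (n : ℕ) (a : Fin (n + 1) → ι) (q : ℕ),
      Subsingleton (CohSite.HU F (q + 1) (∏ᶜ fun k => Y (a k)).left)) →
    Function.Bijective (CechEdge.edgeSh e F p) := by
  induction p with
  | zero => exact fun F _ => edgeSh_zero_bijective he F
  | succ p ih =>
    intro F h
    obtain ⟨S, hS, rfl, hI⟩ := SiteBase.exists_injective_presentation F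
    haveI := hI
    have hQ : ∀ (n : ℕ) (a : Fin (n + 1) → ι) (q : ℕ),
        Subsingleton (CohSite.HU S.X₃ (q + 1) (∏ᶜ fun k => Y (a k)).left) := fun n a q =>
      SiteBase.subsingleton_quot hS _ (q + 1) (SiteBase.subsingleton_of_injective _ S.X₂ q) (h n a (q + 1))
    have hI' : ∀ (n : ℕ) (a : Fin (n + 1) → ι) (q : ℕ),
        Subsingleton (CohSite.HU S.X₂ (q + 1) (∏ᶜ fun k => Y (a k)).left) := fun n a q =>
      SiteBase.subsingleton_of_injective _ S.X₂ q
    have hbij : ∀ n (i : ((nerve Y).obj (op (SimplexCategory.mk n))).I),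
        Function.Bijective ((preQuot S).app (op (((nerve Y).obj (op (SimplexCategory.mk n))).obj i).left)) := by
      intro n i
      refine ⟨preQuot_injective hS _, fun q => ?_⟩
      obtain ⟨b, hb⟩ := SiteBase.sections_surjective hS (((nerve Y).obj (op (SimplexCategory.mk n))).obj i).left
        (h n i 0) q
      refine ⟨(cokernel.π S.f.hom).app _ b, ?_⟩
      rw [← ConcreteCategory.comp_apply, ← NatTrans.comp_app, cokernel.π_desc]
      exact hb
    haveI : IsIso ((CechEdge.cxFunctor Y).map (preQuot S)) := by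
      haveI : ∀ n, IsIso (((CechEdge.cxFunctor Y).map (preQuot S)).f n) := fun n => by
        rw [ConcreteCategory.isIso_iff_bijective]
        constructor
        · intro x x' hxx
          refine HyperLib.cochain_ext (nerve Y) ((Over.forget U).op ⋙ (preSeq S).X₃) fun i => (hbij n i).1 ?_
          refine (HyperLib.valN_map (nerve Y) (Functor.whiskerLeft (Over.forget U).op (preQuot S)) _ _).symm.trans ?_
          refine Eq.trans ?_ (HyperLib.valN_map (nerve Y) (Functor.whiskerLeft (Over.forget U).op (preQuot S)) _ _)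
          exact congrArg (HyperLib.valN (nerve Y) ((Over.forget U).op ⋙ S.X₃.obj)
            (FormalCoproduct.Hom.fromIncl i (𝟙 _))) hxx
        · intro y
          choose a ha using fun i => (hbij n i).2
            (HyperLib.valN (nerve Y) ((Over.forget U).op ⋙ S.X₃.obj) (FormalCoproduct.Hom.fromIncl i (𝟙 _)) y)
          refine ⟨HyperLib.mkCochain (nerve Y) ((Over.forget U).op ⋙ (preSeq S).X₃) a,
            HyperLib.cochain_ext (nerve Y) ((Over.forget U).op ⋙ S.X₃.obj) fun i => ?_⟩
          refine (HyperLib.valN_map (nerve Y) (Functor.whiskerLeft (Over.forget U).op (preQuot S)) _ _).trans ?_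
          rw [HyperLib.valN_fromIncl_mkCochain]
          exact ha i
      exact HomologicalComplex.Hom.isIso_of_components _
    have hi : Function.Bijective (CechEdge.cechHMap Y (preQuot S) p) :=
      (ConcreteCategory.isIso_iff_bijective
        (HomologicalComplex.homologyMap ((CechEdge.cxFunctor Y).map (preQuot S)) p)).1 inferInstance
    refine ⟨edgeSh_succ_injective he hS p (ih S.X₃ hQ).1 hi.1 (ih S.X₂ hI').2, fun y => ?_⟩
    have hC := shortExact_cx Y (shortExact_preSeq hS)
    haveI : Subsingleton (Ext.{u} (CohCx.freeSheaf J U) S.X₂ (p + 1)) := SiteBase.subsingleton_of_injective U S.X₂ p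
    obtain ⟨z, hz⟩ := Ext.covariant_sequence_exact₁ (CohCx.freeSheaf J U) hS y (Subsingleton.elim _ _) rfl
    obtain ⟨w, rfl⟩ := (ih S.X₃ hQ).2 z
    obtain ⟨x, rfl⟩ := hi.2 w
    exact ⟨(hC.δ p (p + 1) rfl).hom x, (edgeSh_square he hS hC p x).trans hz⟩

section Refine

variable {κ : Type u} {Y' : κ → Over U} (f : FormalCoproduct.mk ι Y ⟶ FormalCoproduct.mk κ Y')

theorem valN_cechRefine (P : Cᵒᵖ ⥤ AddCommGrpCat.{u}) {n : ℕ} {W : Over U}
    (t : (FormalCoproduct.incl (Over U)).obj W ⟶ (nerve Y).obj (op (SimplexCategory.mk n)))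
    (x : (CechEdge.cx P Y').X n) :
    HyperLib.valN (nerve Y) ((Over.forget U).op ⋙ P) t ((CohCx.cechRefine P f).f n x) =
      HyperLib.valN (nerve Y') ((Over.forget U).op ⋙ P)
        (t ≫ (FormalCoproduct.cechFunctor.map f).app (op (SimplexCategory.mk n))) x := by
  have e : (CohCx.cechRefine P f).f n ≫ HyperLib.valN (nerve Y) ((Over.forget U).op ⋙ P) t =
      HyperLib.valN (nerve Y') ((Over.forget U).op ⋙ P)
        (t ≫ (FormalCoproduct.cechFunctor.map f).app (op (SimplexCategory.mk n))) := by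
    change ((FormalCoproduct.evalOp.{u} (Over U) AddCommGrpCat.{u}).obj ((Over.forget U).op ⋙ P)).map
      ((FormalCoproduct.cechFunctor.map f).app (op (SimplexCategory.mk n))).op ≫ HyperLib.valN (nerve Y) _ t = _
    refine (Pi.lift_π_assoc _ _ _).trans ?_
    refine (Category.assoc _ _ _).trans ?_
    exact congrArg (Pi.π (fun i => ((Over.forget U).op ⋙ P).obj (op (((nerve Y').obj (op (SimplexCategory.mk n))).obj i)))
      (((FormalCoproduct.cechFunctor.map f).app (op (SimplexCategory.mk n))).f (t.f PUnit.unit)) ≫ ·)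
      (((Over.forget U).op ⋙ P).map_comp _ _).symm
  exact (ConcreteCategory.comp_apply _ _ _).symm.trans (ConcreteCategory.congr_hom e x)

/-- Refinement as a natural transformation of Čech complex functors. -/
noncomputable def refineNat : CechEdge.cxFunctor (C := C) Y' ⟶ CechEdge.cxFunctor Y where
  app P := CohCx.cechRefine P f
  naturality P Q φ := by
    ext n x
    refine HyperLib.cochain_ext (nerve Y) ((Over.forget U).op ⋙ Q) fun i => ?_
    refine (valN_cechRefine f Q _ _).trans ?_
    refine (HyperLib.valN_map (nerve Y') (Functor.whiskerLeft (Over.forget U).op φ) _ x).trans ?_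
    refine Eq.trans ?_ (HyperLib.valN_map (nerve Y) (Functor.whiskerLeft (Over.forget U).op φ) _ _).symm
    exact congrArg _ (valN_cechRefine f P _ x).symm

theorem refine_isEdge (hY' : Sieve.ofArrows (fun i => (Y' i).left) (fun i => (Y' i).hom) ∈ J U)
    (h : CechEdge.IsEdge J Y e) : CechEdge.IsEdge J Y' fun P p =>
      (e P p).comp (HomologicalComplex.homologyMap (CohCx.cechRefine P f) p).hom := by
  refine ⟨hY', fun P s => ?_, fun P Q φ p x => ?_, fun S hS hC p x => ?_⟩
  · refine Eq.trans (congrArg (e P 0) ?_) (h.zero P s)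
    refine ((ConcreteCategory.comp_apply _ _ _).symm.trans ((ConcreteCategory.congr_hom
      (HomologicalComplex.homologyπ_naturality (CohCx.cechRefine P f) 0) (CechEdge.toCycles P Y' s)).trans
        (ConcreteCategory.comp_apply _ _ _))).trans ?_
    refine congrArg ((CechEdge.cx P Y).homologyπ 0)
      ((AddCommGrpCat.mono_iff_injective ((CechEdge.cx P Y).iCycles 0)).1 inferInstance ?_)
    refine (iCycles_cm _ _).trans (Eq.trans ?_ (iCycles_toCycles Y P s).symm)
    refine (congrArg _ (iCycles_toCycles Y' P s)).trans ?_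
    refine HyperLib.cochain_ext (nerve Y) ((Over.forget U).op ⋙ P) fun i => ?_
    refine (valN_cechRefine f P _ _).trans ?_
    rw [valN_toCech₀, valN_toCech₀]
  · refine Eq.trans (congrArg (e Q p) ?_) (h.natural P Q φ p _)
    refine (ConcreteCategory.comp_apply _ _ _).symm.trans ((ConcreteCategory.congr_hom ?_ x).trans
      (ConcreteCategory.comp_apply _ _ _))
    change HomologicalComplex.homologyMap ((CechEdge.cxFunctor Y').map φ) p ≫
        HomologicalComplex.homologyMap ((refineNat f).app Q) p =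
      HomologicalComplex.homologyMap ((refineNat f).app P) p ≫
        HomologicalComplex.homologyMap ((CechEdge.cxFunctor Y).map φ) p
    rw [← HomologicalComplex.homologyMap_comp, ← HomologicalComplex.homologyMap_comp, (refineNat f).naturality]
  · refine Eq.trans (congrArg (e S.X₁ (p + 1)) ?_) (h.delta S hS (shortExact_cx Y hS) p _)
    refine (ConcreteCategory.comp_apply _ _ _).symm.trans ((ConcreteCategory.congr_hom ?_ x).trans
      (ConcreteCategory.comp_apply _ _ _))
    let φ : S.map (CechEdge.cxFunctor Y') ⟶ S.map (CechEdge.cxFunctor Y) :=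
      { τ₁ := (refineNat f).app S.X₁
        τ₂ := (refineNat f).app S.X₂
        τ₃ := (refineNat f).app S.X₃
        comm₁₂ := ((refineNat f).naturality S.f).symm
        comm₂₃ := ((refineNat f).naturality S.g).symm }
    exact HomologicalComplex.HomologySequence.δ_naturality φ hC (shortExact_cx Y hS) p (p + 1) rfl

end Refine

end Groth.Agent.EdgeLib
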