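import Groth.Agent.EdgeLib.Delta

/-!
# Degree zero Čech cohomology of a family
-/

set_option autoImplicit false
set_option backward.isDefEq.respectTransparency false

universe u

open CategoryTheory CategoryTheory.Limits Opposite Abelian

namespace Groth.Agent.EdgeLib

variable {C : Type u} [SmallCategory C] [HasPullbacks C] {U : C} {ι : Type u} (Y : ι → Over U)
  {J : GrothendieckTopology C}

/-- A vertex of the nerve. -/
noncomputable def vert {W : Over U} (i : ι) (g : W ⟶ Y i) :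
    (FormalCoproduct.incl (Over U)).obj W ⟶ (nerve Y).obj (op (SimplexCategory.mk 0)) :=
  FormalCoproduct.Hom.fromIncl (fun _ => i) (Pi.lift fun _ => g)

theorem vertexSieve_mem (hY : Sieve.ofArrows (fun i => (Y i).left) (fun i => (Y i).hom) ∈ J U) (W : Over U) :
    HyperLib.vertexSieve (nerve Y) W ∈ J.over U W := by
  rw [GrothendieckTopology.mem_over_iff]
  refine J.superset_covering ?_ (J.pullback_stable W.hom hY)
  intro Z k hk
  obtain ⟨i, h, e⟩ := (Sieve.mem_ofArrows_iff _ _ _).1 hk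
  exact (Sieve.overEquiv_iff _ _).2 ⟨vert Y i (Over.homMk h e.symm)⟩

/-- Two vertices span an edge. -/
theorem exists_edge {W : Over U} (t₀ t₁ : (FormalCoproduct.incl (Over U)).obj W ⟶ (nerve Y).obj (op (SimplexCategory.mk 0))) :
    ∃ a : (FormalCoproduct.incl (Over U)).obj W ⟶ (nerve Y).obj (op (SimplexCategory.mk 1)),
      a ≫ (nerve Y).δ (1 : Fin 2) = t₀ ∧ a ≫ (nerve Y).δ (0 : Fin 2) = t₁ := by
  let h : Fin 2 → ((FormalCoproduct.incl (Over U)).obj W ⟶ FormalCoproduct.mk ι Y) :=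
    fun k => (if k = 0 then t₀ else t₁) ≫ (FormalCoproduct.mk ι Y).powerπ (0 : Fin 1)
  let a := Fan.IsLimit.lift ((FormalCoproduct.mk ι Y).isLimitPowerFan (Fin 2)) h
  have ha : ∀ k, a ≫ (FormalCoproduct.mk ι Y).powerπ k = h k := fun k =>
    Fan.IsLimit.fac ((FormalCoproduct.mk ι Y).isLimitPowerFan (Fin 2)) h k
  refine ⟨a, Fan.IsLimit.hom_ext ((FormalCoproduct.mk ι Y).isLimitPowerFan (Fin 1)) _ _ fun j => ?_,
    Fan.IsLimit.hom_ext ((FormalCoproduct.mk ι Y).isLimitPowerFan (Fin 1)) _ _ fun j => ?_⟩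
  · change (a ≫ (FormalCoproduct.mk ι Y).mapPower _) ≫ (FormalCoproduct.mk ι Y).powerπ j = t₀ ≫ _
    rw [Category.assoc]
    erw [FormalCoproduct.mapPower_π]
    obtain rfl : j = (0 : Fin 1) := Subsingleton.elim _ _
    exact ha 0
  · change (a ≫ (FormalCoproduct.mk ι Y).mapPower _) ≫ (FormalCoproduct.mk ι Y).powerπ j = t₁ ≫ _
    rw [Category.assoc]
    erw [FormalCoproduct.mapPower_π]
    obtain rfl : j = (0 : Fin 1) := Subsingleton.elim _ _
    exact ha 1

theorem valN_toCech₀ (P : Cᵒᵖ ⥤ AddCommGrpCat.{u}) (s : P.obj (op U)) {W : Over U}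
    (t : (FormalCoproduct.incl (Over U)).obj W ⟶ (nerve Y).obj (op (SimplexCategory.mk 0))) :
    HyperLib.valN (nerve Y) ((Over.forget U).op ⋙ P) t (CechEdge.toCech₀ P Y s) = P.map W.hom.op s := by
  have e : CechEdge.toCech₀ P Y ≫ HyperLib.valN (nerve Y) ((Over.forget U).op ⋙ P) t = P.map W.hom.op := by
    change (Pi.lift fun i : Fin 1 → ι => P.map (∏ᶜ (Y ∘ i)).hom.op) ≫ Pi.π _ (t.f PUnit.unit) ≫
      P.map (t.φ PUnit.unit).left.op = _
    rw [Pi.lift_π_assoc, ← P.map_comp, ← op_comp]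
    exact congrArg (fun k => P.map k.op) (Over.w (t.φ PUnit.unit))
  exact (ConcreteCategory.comp_apply _ _ _).symm.trans (ConcreteCategory.congr_hom e s)

theorem iCycles_toCycles (P : Cᵒᵖ ⥤ AddCommGrpCat.{u}) (s : P.obj (op U)) :
    (CechEdge.cx P Y).iCycles 0 (CechEdge.toCycles P Y s) = CechEdge.toCech₀ P Y s :=
  (ConcreteCategory.comp_apply _ _ _).symm.trans (ConcreteCategory.congr_hom (CechEdge.toCycles_i P Y) s)

theorem toCech_eq_iff (P : Cᵒᵖ ⥤ AddCommGrpCat.{u}) (s s' : P.obj (op U)) :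
    CechEdge.toCech Y P s = CechEdge.toCech Y P s' ↔ CechEdge.toCech₀ P Y s = CechEdge.toCech₀ P Y s' := by
  constructor
  · intro h
    have h' := (AddCommGrpCat.mono_iff_injective ((CechEdge.cx P Y).homologyπ 0)).1 inferInstance h
    rw [← iCycles_toCycles, ← iCycles_toCycles]
    exact congrArg _ h'
  · intro h
    rw [← iCycles_toCycles, ← iCycles_toCycles] at h
    exact congrArg ((CechEdge.cx P Y).homologyπ 0)
      ((AddCommGrpCat.mono_iff_injective ((CechEdge.cx P Y).iCycles 0)).1 inferInstance h)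

theorem toCech_surjective_iff (P : Cᵒᵖ ⥤ AddCommGrpCat.{u}) :
    Function.Surjective (CechEdge.toCech Y P) ↔
      ∀ c : (CechEdge.cx P Y).X 0, (CechEdge.cx P Y).d 0 1 c = 0 → ∃ s, CechEdge.toCech₀ P Y s = c := by
  constructor
  · intro h c hc
    obtain ⟨z, rfl⟩ : ∃ z, (CechEdge.cx P Y).iCycles 0 z = c :=
      (ShortComplex.ab_exact_iff _).1 (ShortComplex.exact_of_f_is_kernel
        (.mk ((CechEdge.cx P Y).iCycles 0) ((CechEdge.cx P Y).d 0 1) ((CechEdge.cx P Y).iCycles_d 0 1))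
          ((CechEdge.cx P Y).cyclesIsKernel 0 1 (by simp))) c hc
    obtain ⟨s, hs⟩ := h ((CechEdge.cx P Y).homologyπ 0 z)
    refine ⟨s, ?_⟩
    have h' : CechEdge.toCycles P Y s = z :=
      (AddCommGrpCat.mono_iff_injective ((CechEdge.cx P Y).homologyπ 0)).1 inferInstance hs
    rw [← iCycles_toCycles, h']
  · intro h x
    obtain ⟨z, rfl⟩ := (AddCommGrpCat.epi_iff_surjective ((CechEdge.cx P Y).homologyπ 0)).1 inferInstance x
    obtain ⟨s, hs⟩ := h ((CechEdge.cx P Y).iCycles 0 z)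
      ((ConcreteCategory.comp_apply _ _ _).symm.trans
        (ConcreteCategory.congr_hom ((CechEdge.cx P Y).iCycles_d 0 1) z))
    refine ⟨s, congrArg ((CechEdge.cx P Y).homologyπ 0)
      ((AddCommGrpCat.mono_iff_injective ((CechEdge.cx P Y).iCycles 0)).1 inferInstance ?_)⟩
    exact (iCycles_toCycles Y P s).trans hs

theorem bijective_toCech (hY : Sieve.ofArrows (fun i => (Y i).left) (fun i => (Y i).hom) ∈ J U)
    (F : Sheaf J AddCommGrpCat.{u}) : Function.Bijective (CechEdge.toCech Y F.obj) := by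
  have hT : Presieve.IsSheaf J (F.obj ⋙ forget AddCommGrpCat.{u}) :=
    (isSheaf_iff_isSheaf_of_type _ _).1 ((sheafCompose J (forget AddCommGrpCat.{u})).obj F).2
  constructor
  · intro s s' h
    rw [toCech_eq_iff] at h
    refine (hT _ hY).isSeparatedFor.ext fun Z k hk => ?_
    obtain ⟨i, g, rfl⟩ := (Sieve.mem_ofArrows_iff _ _ _).1 hk
    have h' := congrArg (HyperLib.valN (nerve Y) ((Over.forget U).op ⋙ F.obj)
      (vert Y i (Over.homMk g : Over.mk (g ≫ (Y i).hom) ⟶ Y i))) h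
    rw [valN_toCech₀, valN_toCech₀] at h'
    exact h'
  · refine (toCech_surjective_iff Y F.obj).2 fun c hc => ?_
    obtain ⟨g, hg⟩ := HyperLib.exists_glue (J := J.over U) (vertexSieve_mem Y hY)
      (fun W t₀ t₁ => ⟨⊤, (J.over U).top_mem W, fun {Z} k _ =>
        exists_edge Y ((FormalCoproduct.incl (Over U)).map k ≫ t₀) ((FormalCoproduct.incl (Over U)).map k ≫ t₁)⟩)
      (F.over U) c hc (Over.mk (𝟙 U))
    refine ⟨g, HyperLib.cochain_ext (nerve Y) ((Over.forget U).op ⋙ F.obj) fun i => ?_⟩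
    rw [valN_toCech₀]
    exact hg (Over.homMk ((nerve Y).obj (op (SimplexCategory.mk 0)) |>.obj i).hom (Category.comp_id _))
      (FormalCoproduct.Hom.fromIncl i (𝟙 _))

theorem isSheaf_of_bijective_toCech (P : Cᵒᵖ ⥤ AddCommGrpCat.{u})
    (h : ∀ (U : C) (ι : Type u) (Y : ι → Over U),
      Sieve.ofArrows (fun i => (Y i).left) (fun i => (Y i).hom) ∈ J U →
        Function.Bijective (CechEdge.toCech Y P)) : Presheaf.IsSheaf J P := by
  rw [Presheaf.isSheaf_iff_isSheaf_forget J P (forget AddCommGrpCat.{u}), isSheaf_iff_isSheaf_of_type]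
  intro U S hS x hx
  let Y : (Σ Z : C, {f : Z ⟶ U // S f}) → Over U := fun a => Over.mk a.2.1
  have hY : Sieve.ofArrows (fun i => (Y i).left) (fun i => (Y i).hom) ∈ J U :=
    J.superset_covering (fun Z f hf => (Sieve.mem_ofArrows_iff _ _ _).2
      ⟨⟨Z, f, hf⟩, 𝟙 Z, (Category.id_comp f).symm⟩) hS
  have mem : ∀ (i : ((nerve Y).obj (op (SimplexCategory.mk 0))).I),
      S (((nerve Y).obj (op (SimplexCategory.mk 0))).obj i).hom := by
    intro i
    change S (∏ᶜ (Y ∘ i)).hom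
    have hw : (Pi.π (Y ∘ i) (0 : Fin 1)).left ≫ (Y (i (0 : Fin 1))).hom = (∏ᶜ (Y ∘ i)).hom := Over.w _
    rw [← hw]
    exact S.downward_closed (i (0 : Fin 1)).2.2 _
  let c : (CechEdge.cx P Y).X 0 := HyperLib.mkCochain (nerve Y) ((Over.forget U).op ⋙ P) fun i => x _ (mem i)
  have hc : ∀ {W : Over U} (t : (FormalCoproduct.incl (Over U)).obj W ⟶ (nerve Y).obj (op (SimplexCategory.mk 0)))
      (hW : S W.hom), HyperLib.valN (nerve Y) ((Over.forget U).op ⋙ P) t c = x W.hom hW := by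
    intro W t hW
    rw [HyperLib.valN_mkCochain]
    exact (hx ((t.φ PUnit.unit).left) (𝟙 W.left) (mem _) hW
      ((Over.w (t.φ PUnit.unit)).trans (Category.id_comp _).symm)).trans (ConcreteCategory.congr_hom (P.map_id (op W.left)) _)
  have hW' : ∀ {W : Over U} (t : (FormalCoproduct.incl (Over U)).obj W ⟶ (nerve Y).obj (op (SimplexCategory.mk 0))),
      S W.hom := by
    intro W t
    have hw : (t.φ PUnit.unit).left ≫ (((nerve Y).obj (op (SimplexCategory.mk 0))).obj (t.f PUnit.unit)).hom = W.hom :=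
      Over.w _
    rw [← hw]
    exact S.downward_closed (mem _) _
  obtain ⟨s, hs⟩ := ((toCech_surjective_iff Y P).1 (h U _ Y hY).2) c (HyperLib.cochain_ext (nerve Y) _ fun i => by
    refine (HyperLib.d_valN (nerve Y) ((Over.forget U).op ⋙ P) _ c).trans ?_
    rw [map_zero, Fin.sum_univ_two, hc _ (hW' (FormalCoproduct.Hom.fromIncl i (𝟙 _) ≫ (nerve Y).δ (0 : Fin 2))),
      hc _ (hW' (FormalCoproduct.Hom.fromIncl i (𝟙 _) ≫ (nerve Y).δ (0 : Fin 2)))]
    simp)
  refine ⟨s, fun Z f hf => ?_, fun s' hs' => (h U _ Y hY).1 ((toCech_eq_iff Y P _ _).2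
    (HyperLib.cochain_ext (nerve Y) _ fun i => ?_))⟩
  · have h' := congrArg (HyperLib.valN (nerve Y) ((Over.forget U).op ⋙ P)
      (vert Y (W := Over.mk f) ⟨Z, f, hf⟩ (𝟙 _))) hs
    rw [valN_toCech₀, hc _ (show S (Over.mk f).hom from hf)] at h'
    exact h'
  · rw [valN_toCech₀, hs, hc _ (mem i)]
    exact hs' _ (mem i)

end Groth.Agent.EdgeLib
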